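import Cfsg.Agent.KZ.Ch3A.Lab
import Cfsg.Agent.KZ.Dat.GlS

/-!
# KZ, characteristic `3`: three invariant characters of `PSL` and `PSU` (helper98)

`taL`, `taU` (the data of type `A`), `oddA`, `oddQ`; `tri_psl`, `tri_psu`.
-/

set_option autoImplicit false
set_option linter.unusedSectionVars false

namespace Cfsg.Agent.KZ.Ch3A

open Cfsg Matrix Cfsg.Agent.DL Cfsg.Agent.DL.PP Cfsg.Agent.Nodes.RootsA Cfsg.Agent.ODD.C2 Cfsg.Agent.KZ.Lie
  Cfsg.Agent.KZ.Ch3 Cfsg.Agent.KZ.Dat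

attribute [local instance] finite_WA

section

variable {n p : ℕ} [Fact p.Prime] {k : Type} [Field k] [CharP k p] [IsAlgClosed k] {e : ℕ}
  (hk : ∀ a : k, ∃ j, 0 < j ∧ a ^ p ^ j = a) (he : 0 < e) {α : MulAut (GL (Fin (n + 1)) k)}
  {g : (Fin n → ℤ) → Fin n → ℤ} {B : Matrix (Fin (n + 1)) (Fin (n + 1)) ℤ} (S : (smA n).Sy (csA n) (isCartan n) α g B)

/-- the data of type `A` -/
noncomputable def taA {ε : ℤ} (σ : Equiv.Perm (Fin (n + 1))) (h : spm σ 1 * B = ε • 1) :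
    TA (datA hk he S) (ε * (p : ℤ) ^ e) where
  e := pwA n
  Wm_eq := datA_Wm hk he S
  w0 := (pwA n).symm σ
  hQ := by
    show (okA n).wm hk he S _ * ((p : ℤ) ^ e • B) = (ε * (p : ℤ) ^ e) • (1 : Matrix (Fin (n + 1)) (Fin (n + 1)) ℤ)
    rw [wm_A, MulEquiv.apply_symm_apply, mul_smul_comm, h, smul_smul, mul_comm]
  rt a ha := by
    obtain ⟨i, j, hij, rfl⟩ := (datA_rt hk he S a).1 ha
    exact ⟨i, j, hij, datA_wt hk he S i j, (datA_cor hk he S ha).trans (datA_wt hk he S i j)⟩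
  ex i j h :=
    have ha := (datA_rt hk he S _).2 ⟨i, j, h, rfl⟩
    ⟨_, ha, datA_wt hk he S i j, (datA_cor hk he S ha).trans (datA_wt hk he S i j)⟩

variable (n) in
/-- `GL` -/
noncomputable def taL : TA (datL n hk he) (1 * (p : ℤ) ^ e) := taA hk he _ 1 (by rw [spm_one, one_mul, one_smul])

variable (n) in
/-- `GU` -/
noncomputable def taU : TA (datU n hk he) (-1 * (p : ℤ) ^ e) :=
  taA hk he _ Fin.revPerm (by rw [← neg_neg (spm _ _), ← BA_eq, neg_mul, BA_BA, neg_one_smul])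

theorem oddA (hp : Odd p) : OddAdm (datA hk he S) (AdmA p n) := by
  have h : ∀ j : ℕ, Odd ((p : ℤ) ^ j) := fun j => hp.natCast.pow
  rintro _ ⟨j, rfl | rfl⟩
  · exact ⟨_, 1, h j, congrArg _ (datA hk he S).Wm_one.symm⟩
  · refine ⟨_, (pwA n).symm Fin.revPerm, (h j).neg, .trans ?_ (congrArg _ (datA_Wm hk he S _).symm)⟩
    rw [MulEquiv.apply_symm_apply, BA_eq, smul_neg]
    exact (neg_smul _ _).symm

theorem oddQ (hp : Odd p) : OddAdm (datA hk he S) (AdmQ p) := fun A h => oddA hk he S hp A (h.imp fun _ => .inl)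

end

theorem pow_mod (e : ℕ) : ∃ r : ℤ, (r = 1 ∨ r = 3) ∧ 8 ∣ ((3 : ℕ) : ℤ) ^ e - r := by
  induction e with
  | zero => exact ⟨1, .inl rfl, by simp⟩
  | succ e ih =>
    rw [pow_succ]
    obtain ⟨r, rfl | rfl, h⟩ := ih
    · exact ⟨3, .inr rfl, by omega⟩
    · exact ⟨1, .inl rfl, by omega⟩

variable (hA : BoxApi) (F : Type) [Field F] [Fintype F] [CharP F 3] {n q : ℕ}
include hA

/-- **linear groups** -/
theorem tri_psl (hn : 3 ≤ n) : Tri (ProjectiveSpecialLinearGroup (Fin n) F) := by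
  obtain ⟨n, rfl⟩ : ∃ m, n = m + 1 := ⟨n - 1, by omega⟩
  obtain ⟨p, _, e, k, _, _, _, f, hk, he, hF⟩ := hasL F
  obtain rfl : 3 = p := CharP.eq F ‹_› (charP_of_card_eq_prime_pow hF)
  have := @Fintype.ofFinite _ ((datL n hk he).amb.finite_GF (GA n k))
  obtain ⟨fr⟩ := nonempty_fr (datL n hk he)
  obtain ⟨r, h1, h2⟩ := pow_mod e
  exact (taL n hk he).tri (s := (covL f hk he hF (by omega) (by omega)).sit) (hA fr (datL_qs n hk he)) rfl
    (oddA hk he _ (by decide)) (by positivity) h2 (three (by omega) (.inl rfl) h1)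

/-- **unitary groups** -/
theorem tri_psu (hF : Fintype.card F = q ^ 2) (hn : 3 ≤ n) : Tri (PSU n F q) := by
  obtain ⟨n, rfl⟩ : ∃ m, n = m + 1 := ⟨n - 1, by omega⟩
  obtain ⟨p, _, e, k, _, _, _, f, hk, he, rfl⟩ := hasU F hF
  obtain rfl : 3 = p := CharP.eq F ‹_› (charP_of_card_eq_prime_pow (hF.trans (pow_mul p e 2).symm))
  have := @Fintype.ofFinite _ ((datU n hk he).amb.finite_GF (GA n k))
  obtain ⟨fr⟩ := nonempty_fr (datU n hk he)
  obtain ⟨r, h1, h2⟩ := pow_mod e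
  exact (taU n hk he).tri (s := (covU f hk he hF (by omega) fun h => absurd (Odd.pow (n := e) (by decide : Odd 3))
    (by rw [h.2]; decide)).sit) (hA fr (datU_qs n hk he)) rfl (oddQ hk he _ (by decide)) (by positivity) h2
    (three (by omega) (.inr rfl) h1)

end Cfsg.Agent.KZ.Ch3A
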