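import Mathlib

/-!
# KZ, characteristic `3`, type `A`: the combinatorics of the labels (helper98)

`Ok ε r N π x lam`: the exponents `x` (modulo `N`) are fixed by `ε r π`, and in general position in the Levi subgroup of
`lam`; `Three ε r`: the three labels; `three`.
-/

set_option autoImplicit false

namespace Cfsg.Agent.KZ.Ch3A

open Equiv

/-- exponents of a label in general position in a split Levi subgroup -/
structure Ok {R : Type} [Fintype R] (ε r : ℤ) (N : ℕ) (π : Perm R) (x lam : R → ℤ) : Prop where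
  sum : ∑ i, x i = 0
  fx : ∀ j, (N : ℤ) ∣ ε * r * x (π j) - x j
  lev : ∀ i, lam (π i) = ε * lam i
  inj : ∀ i j, lam i = lam j → (N : ℤ) ∣ x i - x j → i = j

/-- two exponents have different parities -/
def Od {R : Type} (x : R → ℤ) : Prop := ∃ i j, ¬ 2 ∣ x i - x j

/-- the three labels -/
structure Three (R : Type) [Fintype R] (ε r : ℤ) : Prop where
  a : ∃ (π : Perm R) (x lam : R → ℤ), Ok ε r 8 π x lam ∧ Od x
  b : ∃ (π : Perm R) (x lam : R → ℤ), Ok ε r 4 π x lam ∧ Od x ∧ ∃ τ : Perm R, τ * π = π * τ ∧ ∀ i, x (τ i) = -x i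
  c : ∃ (π : Perm R) (x lam : R → ℤ), Ok ε r 2 π x lam ∧ Od x

variable {n : ℕ}

/-- three non-zero exponents -/
def xv (n m : ℕ) (a b c : ℤ) (i : Fin (n + 1)) : ℤ :=
  if (i : ℕ) = 0 then a else if (i : ℕ) = n then b else if (i : ℕ) = m then c else 0

/-- an antisymmetric cocharacter which vanishes at `m` and `n - m` -/
def lm (n m : ℕ) (i : Fin (n + 1)) : ℤ := if (i : ℕ) = m ∨ (i : ℕ) + m = n then 0 else 2 * (i : ℕ) - n

theorem sum_xv {m : ℕ} (h0 : 0 < m) (h1 : m < n) (a b c : ℤ) : ∑ i, xv n m a b c i = a + b + c := by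
  have h : xv n m a b c = Pi.single 0 a + Pi.single (Fin.last n) b + Pi.single ⟨m, by omega⟩ c := funext fun i => by
    simp only [xv, Pi.add_apply, Pi.single_apply, Fin.ext_iff, Fin.val_zero, Fin.val_last]
    split_ifs <;> omega
  simp [h, Finset.sum_add_distrib]

theorem val_swap (a b j : Fin (n + 1)) : ((j : ℕ) = a ∧ (swap a b j : ℕ) = b) ∨ ((j : ℕ) = b ∧ (swap a b j : ℕ) = a) ∨
    ((j : ℕ) ≠ a ∧ (j : ℕ) ≠ b ∧ (swap a b j : ℕ) = j) := by
  simp only [swap_apply_def, Fin.ext_iff]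
  split_ifs <;> omega

theorem od_xv (hn : 2 ≤ n) {m : ℕ} {a b c : ℤ} (h : ¬ 2 ∣ a) (h' : 2 ∣ c) : Od (xv n m a b c) :=
  ⟨0, ⟨1, by omega⟩, by
    simp only [xv, Fin.val_zero, if_true, one_ne_zero, if_false]
    split_ifs <;> omega⟩

/-- **the labels** -/
theorem three (hn : 2 ≤ n) {ε r : ℤ} (hε : ε = 1 ∨ ε = -1) (hr : r = 1 ∨ r = 3) : Three (Fin (n + 1)) ε r := by
  obtain ⟨σ, h0⟩ : ∃ σ : Perm (Fin (n + 1)), (ε = 1 ∧ ∀ i, (σ i : ℕ) = i) ∨ (ε = -1 ∧ ∀ i, (σ i : ℕ) + i = n) :=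
    hε.elim (fun h => ⟨1, .inl ⟨h, fun _ => rfl⟩⟩) fun h => ⟨Fin.revPerm, .inr ⟨h, fun i => by
      have := i.2
      rw [Fin.revPerm_apply, Fin.val_rev]
      omega⟩⟩
  have h6 : ∀ j : Fin (n + 1), ((j : ℕ) = 0 ∧ (swap 0 (Fin.last n) j : ℕ) = n) ∨
      ((j : ℕ) = n ∧ (swap 0 (Fin.last n) j : ℕ) = 0) ∨ ((j : ℕ) ≠ 0 ∧ (j : ℕ) ≠ n ∧ (swap 0 (Fin.last n) j : ℕ) = j) :=
    val_swap 0 (Fin.last n)
  have h1 : ∀ N : ℕ, (N : ℤ) ∣ r - 1 → Ok ε r N σ (xv n 1 1 (-1) 0) (lm n (n + 1)) := fun N hN =>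
    ⟨by rw [sum_xv one_pos hn]; rfl, fun j => by
      have h2 : ε * xv n 1 1 (-1) 0 (σ j) = xv n 1 1 (-1) 0 j := by
        rcases h0 with ⟨rfl, h⟩ | ⟨rfl, h⟩ <;> have := h j <;> unfold xv <;> split_ifs <;> omega
      rw [mul_right_comm, h2, mul_comm, ← sub_one_mul]
      exact hN.mul_right _, fun i => by
      have := i.2
      rcases h0 with ⟨rfl, h⟩ | ⟨rfl, h⟩ <;> have := h i <;> unfold lm <;> split_ifs <;> omega, fun i j h _ => by
      have := i.2
      have := j.2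
      unfold lm at h
      split_ifs at h <;> omega⟩
  have h2 : Od (xv n 1 1 (-1) 0) := od_xv hn (by decide) (by decide)
  have h3 : swap 0 (Fin.last n) * σ = σ * swap 0 (Fin.last n) := Equiv.ext fun i => Fin.ext (by
    have := h6 i
    have := h6 (σ i)
    rw [Perm.mul_apply, Perm.mul_apply]
    rcases h0 with ⟨-, h⟩ | ⟨-, h⟩ <;> have := h i <;> have := h (swap 0 (Fin.last n) i) <;> omega)
  have h4 : ∀ i, xv n 1 1 (-1) 0 (swap 0 (Fin.last n) i) = -xv n 1 1 (-1) 0 i := fun i => by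
    have := h6 i
    unfold xv
    split_ifs <;> omega
  have h5 : ∀ i, lm n 0 ((swap 0 (Fin.last n) * σ) i) = ε * lm n 0 i := fun i => by
    have := h6 (σ i)
    rw [Perm.mul_apply]
    rcases h0 with ⟨rfl, h⟩ | ⟨rfl, h⟩ <;> have := h i <;> unfold lm <;> split_ifs <;> omega
  rcases hr with rfl | rfl
  · exact ⟨⟨_, _, _, h1 8 (by decide), h2⟩, ⟨_, _, _, h1 4 (by decide), h2, _, h3, h4⟩, _, _, _, h1 2 (by decide), h2⟩
  refine ⟨?_, ⟨swap 0 (Fin.last n) * σ, _, lm n 0, ⟨(h1 2 (by decide)).sum, fun j => ?_, h5, fun i j h h' => ?_⟩, h2, _,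
    by rw [mul_assoc, ← h3], h4⟩, _, _, _, h1 2 (by decide), h2⟩
  · rcases h0 with ⟨rfl, h⟩ | ⟨rfl, h⟩
    · refine ⟨_, xv n 1 1 3 (-4), _, ⟨by rw [sum_xv one_pos hn]; rfl, fun j => ?_, h5, fun i j h h' => ?_⟩,
        od_xv hn (by decide) (by decide)⟩
      · have := h6 (σ j)
        have := h j
        rw [Perm.mul_apply]
        unfold xv
        split_ifs <;> omega
      · have := i.2
        have := j.2
        unfold lm at h
        unfold xv at h'
        split_ifs at h h' <;> omega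
    · have h7 := val_swap (n := n) ⟨n / 2, by omega⟩ ⟨n - n / 2, by omega⟩
      refine ⟨swap ⟨n / 2, by omega⟩ ⟨n - n / 2, by omega⟩ * σ, xv n (n / 2) 1 (-3) 2, lm n (n / 2),
        ⟨by rw [sum_xv (by omega) (by omega)]; rfl, fun j => ?_, fun i => ?_, fun i j h h' => ?_⟩,
        od_xv hn (by decide) (by decide)⟩
      · have := h7 (σ j)
        have := h j
        rw [Perm.mul_apply]
        unfold xv
        dsimp only at *
        split_ifs <;> omega
      · have := h7 (σ i)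
        have := h i
        rw [Perm.mul_apply]
        unfold lm
        dsimp only at *
        split_ifs <;> omega
      · have := i.2
        have := j.2
        unfold lm at h
        unfold xv at h'
        split_ifs at h h' <;> omega
  · have := h6 (σ j)
    rw [Perm.mul_apply]
    rcases h0 with ⟨rfl, h⟩ | ⟨rfl, h⟩ <;> have := h j <;> unfold xv <;> split_ifs <;> omega
  · have := i.2
    have := j.2
    unfold lm at h
    unfold xv at h'
    split_ifs at h h' <;> omega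

end Cfsg.Agent.KZ.Ch3A
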