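import Cfsg.Agent.KZ.Ch3.Tru
import Cfsg.Agent.KZ.Dat.Spm
import Cfsg.Agent.KZ.Ch3A.Ok

/-!
# KZ, characteristic `3`, type `A`: labels (helper98)

* `OddAdm`, `mov_smul`, `stb2_of`, `stb_of_two`, `stb_of_four`: the action of the admissible matrices (any datum);
* `TA D Q`: a datum of type `A`; `TA.ty π` is the type with `w F = Q π`; `rel_iff`, `tc_ty`, `mov`, `fx_zw`, `gp`, `lab`,
  `ro_iff`, `cenT`, `tri`.
-/

set_option autoImplicit false
set_option linter.unusedSectionVars false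

namespace Cfsg.Agent.KZ.Ch3A

open Cfsg Cfsg.Agent.DL Cfsg.Agent.DL.PP Cfsg.Agent.KZ.Lie Cfsg.Agent.KZ.Ch3 Cfsg.Agent.KZ.Dat Matrix Equiv

variable {p : ℕ} [Fact p.Prime] {k : Type} [Field k] [CharP k p] {Y : Type} [Group Y] {N : Type} [Fintype N]
  [DecidableEq N] {ρ : Y →* GL N k} {F : MulAut Y} {G : Subgroup Y} [IsAlgClosed k] {D : Datum p ρ F G}
  {w w' v t : D.W} {c c' : Lbl D} {Adm : Matrix D.R D.R ℤ → Prop} [Fintype ↥(GF F G)]

/-! ### admissible matrices -/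

variable (D Adm) in
/-- the admissible matrices are odd multiples of elements of the Weyl group -/
def OddAdm : Prop := ∀ A, Adm A → ∃ (a : ℤ) (u : D.W), Odd a ∧ A = a • D.Wm u

theorem fx_zpow (h : Fx D w c) (a : ℤ) : Fx D w (c ^ a) := fun x => by rw [map_zpow, map_zpow, h]

theorem mov_smul {a : ℤ} (u : D.W) (ht : Tc D t w w') (h : Rel D t c (c' ^ a)) : Mov D (a • D.Wm u) w c w' c' := by
  have h1 : a • D.Wm u * D.Wm (u⁻¹ * t) = a • D.Wm t := by rw [smul_mul_assoc, ← D.Wm_mul, mul_inv_cancel_left]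
  refine ⟨u⁻¹ * t, ?_, fun x => ?_⟩
  · rw [h1, smul_mul_assoc, mul_smul_comm, tc_iff.1 ht]
  · rw [h1, smul_mulVec, chr_zsmul, ← map_zpow, h]

/-- labels of order dividing `8` -/
theorem stb2_of (h : OddAdm D Adm) (hc : Fx D w c) (h8 : c ^ 8 = 1) : Stb2 D Adm w c := fun A hA => by
  obtain ⟨a, u, ⟨b, h1⟩, rfl⟩ := h A hA
  obtain ⟨d, hd⟩ := Int.even_mul_succ_self b
  refine ⟨w, c ^ a, fx_zpow hc a, mov_smul u (tc_one w) (rel_one D _), mov_smul u (tc_one w) ?_⟩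
  rw [← _root_.zpow_mul, show a * a = (8 : ℕ) * d + 1 by rw [h1]; push_cast; linear_combination 4 * hd, _root_.zpow_add_one,
    _root_.zpow_mul, zpow_natCast, h8, _root_.one_zpow, one_mul]
  exact rel_one D _

theorem stb_of_two (h : OddAdm D Adm) (h2 : c ^ 2 = 1) : Stb D Adm w c := fun A hA => by
  obtain ⟨a, u, ⟨b, rfl⟩, rfl⟩ := h A hA
  refine mov_smul u (tc_one w) ?_
  rw [_root_.zpow_add_one, _root_.zpow_mul, zpow_ofNat, h2, _root_.one_zpow, one_mul]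
  exact rel_one D _

theorem stb_of_four (h : OddAdm D Adm) (h4 : c ^ 4 = 1) (ht : Tc D t w w) (h1 : Rel D t c c⁻¹) : Stb D Adm w c :=
  fun A hA => by
  obtain ⟨a, u, h2, rfl⟩ := h A hA
  obtain ⟨b, rfl | rfl⟩ : ∃ b, a = 4 * b + 1 ∨ a = 4 * b - 1 := ⟨(a + 1) / 4, by
    have := Int.odd_iff.1 h2
    omega⟩
  · refine mov_smul u (tc_one w) ?_
    rw [_root_.zpow_add_one, _root_.zpow_mul, zpow_ofNat, h4, _root_.one_zpow, one_mul]
    exact rel_one D _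
  · refine mov_smul u ht ?_
    rwa [_root_.zpow_sub_one, _root_.zpow_mul, zpow_ofNat, h4, _root_.one_zpow, one_mul]

theorem coch_pow {ξ : ℂˣ} {n : ℕ} (h : ξ ^ n = 1) (x : D.R → ℤ) : coch x ξ ^ n = 1 := by rw [← map_pow, h, map_one]

theorem ro_of_pow {n : ℕ} (h : c ^ n = 1) : RO D c n := fun a _ => by rw [← map_pow, h, map_one]

theorem chr_spm {R K : Type} [Fintype R] [DecidableEq R] [Field K] (π : Perm R) (z : R → ℤ) (c : R → Kˣ) :
    chr (spm π 1 *ᵥ z) c = chr z (c ∘ π) := by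
  rw [chr_apply, chr_apply, ← Equiv.prod_comp π]
  simp only [spm_mulVec, Pi.one_apply, Units.val_one, one_mul, Function.comp_apply]

theorem exists_root (n : ℕ) (hn : n ≠ 0) : ∃ ξ : ℂˣ, IsPrimitiveRoot ξ n :=
  ⟨_, (Complex.isPrimitiveRoot_exp n hn).isUnit_unit hn⟩

theorem zpow_eq_iff {ξ : ℂˣ} {n : ℕ} (h : IsPrimitiveRoot ξ n) (a b : ℤ) : ξ ^ a = ξ ^ b ↔ (n : ℤ) ∣ a - b := by
  rw [← h.zpow_eq_one_iff_dvd, _root_.zpow_sub, mul_inv_eq_one]

/-! ### type `A` -/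

variable (D) in
/-- the data of `GL_m(q)` (`Q = q`, `w0 = 1`) and `GU_m(q)` (`Q = -q`, `w0` the longest element) -/
structure TA (Q : ℤ) where
  e : D.W ≃* Perm D.R
  Wm_eq : ∀ w, D.Wm w = spm (e w) 1
  w0 : D.W
  hQ : D.Wm w0 * D.Mx = Q • (1 : Matrix D.R D.R ℤ)
  rt : ∀ a, D.Rt a → ∃ i j, i ≠ j ∧ D.wt a = Pi.single i 1 - Pi.single j 1 ∧ D.cor a = Pi.single i 1 - Pi.single j 1
  ex : ∀ i j, i ≠ j → ∃ a, D.Rt a ∧ D.wt a = Pi.single i 1 - Pi.single j 1 ∧ D.cor a = Pi.single i 1 - Pi.single j 1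

namespace TA

variable {Q : ℤ} (L : TA D Q) {π π' τ : Perm D.R} {x lam : D.R → ℤ} {ξ : ℂˣ} {n : ℕ}

/-- the type with `w F = Q π` -/
def ty (π : Perm D.R) : D.W := L.e.symm π * L.w0

theorem Wm_symm (π : Perm D.R) : D.Wm (L.e.symm π) = spm π 1 := by rw [L.Wm_eq, MulEquiv.apply_symm_apply]

theorem Wm_ty (π : Perm D.R) : D.Wm (L.ty π) * D.Mx = Q • spm π 1 := by
  rw [ty, D.Wm_mul, mul_assoc, L.hQ, L.Wm_symm, mul_smul_comm, mul_one]

theorem rel_iff : Rel D v c c' ↔ c' ∘ L.e v = c :=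
  ⟨fun h => eq_of_chr D fun z => by rw [← chr_spm, ← L.Wm_eq, h], fun h z => by rw [L.Wm_eq, chr_spm, h]⟩

theorem rel_symm (h : ∀ i, c' (τ i) = c i) : Rel D (L.e.symm τ) c c' :=
  L.rel_iff.2 (by rw [MulEquiv.apply_symm_apply]; exact funext h)

theorem tc_ty (h : τ * π = π' * τ) : Tc D (L.e.symm τ) (L.ty π) (L.ty π') := tc_iff.2 (by
  rw [L.Wm_ty, L.Wm_ty, L.Wm_symm, mul_smul_comm, smul_mul_assoc, spm_mul, spm_mul, h]
  rfl)

/-- the action of `a u` on pairs -/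
theorem mov {a : ℤ} (u : D.W) (h : τ * π = π' * τ) (h' : ∀ i, c' (τ i) ^ a = c i) :
    Mov D (a • D.Wm u) (L.ty π) c (L.ty π') c' := mov_smul u (L.tc_ty h) (L.rel_symm h')

theorem fx_iff : Fx D (L.ty π) c ↔ ∀ i, c (π i) ^ Q = c i :=
  ⟨fun h i => by
    rw [← chr_single i c, ← h, L.Wm_ty, smul_mulVec, chr_zsmul, chr_spm, chr_single, Function.comp_apply], fun h z => by
    rw [L.Wm_ty, smul_mulVec, chr_zsmul, chr_spm, ← map_zpow]
    exact congrArg _ (funext h)⟩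

include L in
/-- the root lattice -/
theorem exists_wt (h : ∑ i, x i = 0) : ∃ γ, D.wt γ = x := by
  rcases isEmpty_or_nonempty D.R with _ | ⟨⟨j⟩⟩
  · exact ⟨0, Subsingleton.elim _ _⟩
  have h1 : ∀ i, ∃ a, D.wt a = Pi.single i 1 - Pi.single j 1 := fun i => by
    by_cases e : i = j
    · exact ⟨0, by rw [e, sub_self, map_zero]⟩
    · exact (L.ex i j e).imp fun _ h => h.2.1
  choose a ha using h1
  refine ⟨∑ i, x i • a i, ?_⟩
  simp only [map_sum, map_zsmul, ha, smul_sub, Finset.sum_sub_distrib, ← Finset.sum_smul, h, zero_smul, sub_zero]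
  simp only [← Pi.single_smul', smul_eq_mul, mul_one, Finset.univ_sum_single]

variable {S : Type} [Group S] {f : Fr D} {s : Sit D Adm S}

theorem fx_zw (hξ : ξ ^ n = 1) (hn : n ≠ 0) (h0 : ∑ i, x i = 0) (h : ∀ j, (n : ℤ) ∣ Q * x (π j) - x j) :
    Fx D (L.ty π) (coch x ξ) ∧ s.Zw f (L.ty π) (coch x ξ) := by
  choose y hy using h
  obtain ⟨γ, hγ⟩ := L.exists_wt (x := y) (mul_left_cancel₀ (Nat.cast_ne_zero.2 hn : (n : ℤ) ≠ 0) (by
    rw [Finset.mul_sum, ← funext hy, Finset.sum_sub_distrib, ← Finset.mul_sum, Equiv.sum_comp π x, h0]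
    simp))
  refine zw_of_root hξ (γ := γ) (funext fun j => ?_)
  rw [L.Wm_ty, hγ, vecMul_smul, Pi.smul_apply, vecMul_spm, Pi.add_apply, Pi.smul_apply, smul_eq_mul, smul_eq_mul, ← hy]
  simp

theorem gp (h : Fx D (L.ty π) c) {m : ℤ} (hm : 0 < m) (h1 : ∀ i, Q * lam i = m * lam (π i))
    (h2 : ∀ i j, lam i = lam j → c i = c j → i = j) : GP D (L.ty π) c := by
  refine ⟨h, lam, m, hm, funext fun i => ?_, fun u h3 h4 => L.e.injective (Equiv.ext fun i => ?_)⟩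
  · obtain ⟨i, rfl⟩ := π.surjective i
    rw [L.Wm_ty, smul_mulVec, Pi.smul_apply, spm_mulVec, Pi.smul_apply, smul_eq_mul, smul_eq_mul, ← h1]
    simp
  · rw [map_one]
    refine h2 _ _ ?_ (congrFun (L.rel_iff.1 h4) i)
    rw [← congrFun h3 (L.e u i), L.Wm_eq, spm_mulVec]
    simp

/-- **a label from its exponents** -/
theorem lab {ε q r : ℤ} (L : TA D (ε * q)) (hq : 0 < q) (hξ : IsPrimitiveRoot ξ n) (hn : n ≠ 0) (hr : (n : ℤ) ∣ q - r)
    (h : Ok ε r n π x lam) : GP D (L.ty π) (coch x ξ) ∧ s.Zw f (L.ty π) (coch x ξ) := by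
  obtain ⟨h1, h2⟩ := L.fx_zw (s := s) (f := f) (π := π) hξ.pow_eq_one hn h.sum fun j => by
    rw [show ε * q * x (π j) - x j = (q - r) * (ε * x (π j)) + (ε * r * x (π j) - x j) by ring]
    exact (hr.mul_right _).add (h.fx j)
  exact ⟨L.gp h1 hq (fun i => by rw [h.lev]; ring) fun i j h3 h4 => h.inj i j h3 ((zpow_eq_iff hξ _ _).1 h4), h2⟩

include L in
theorem ro_iff : RO D c n ↔ ∀ i j, c i ^ n = c j ^ n := by
  have h : ∀ i j, chr (Pi.single i 1 - Pi.single j 1) c ^ n = 1 ↔ c i ^ n = c j ^ n := fun i j => by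
    rw [chr_sub, chr_single, chr_single, mul_pow, inv_pow, mul_inv_eq_one]
  refine ⟨fun h1 i j => ?_, fun h1 a ha => ?_⟩
  · by_cases e : i = j
    · rw [e]
    · obtain ⟨a, h2, -, h3⟩ := L.ex i j e
      rw [← h, ← h3, h1 a h2]
  · obtain ⟨i, j, -, -, h2⟩ := L.rt a ha
    rw [h2, h, h1]

include L in
theorem not_ro (hξ : IsPrimitiveRoot ξ (2 * n)) (hn : n ≠ 0) (h : Od x) : ¬ RO D (coch x ξ) n := fun h1 => by
  obtain ⟨i, j, h⟩ := h
  have h2 := L.ro_iff.1 h1 i j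
  rw [coch_apply, coch_apply, ← zpow_natCast, ← zpow_natCast, ← _root_.zpow_mul, ← _root_.zpow_mul, zpow_eq_iff hξ,
    ← sub_mul, Nat.cast_mul, mul_dvd_mul_iff_right (Nat.cast_ne_zero.2 hn)] at h2
  exact h h2

include L in
theorem cenT (hA : Api f) : CenT f s := cenT_of_prim hA fun a ha => by
  obtain ⟨i, j, h, h1, -⟩ := L.rt a ha
  exact ⟨Pi.single i 1, by rw [h1, dotProduct_single, Pi.sub_apply, Pi.single_eq_same, Pi.single_eq_of_ne h]; rfl⟩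

include s in
/-- **three characters** -/
theorem tri {ε q r : ℤ} (L : TA D (ε * q)) (hA : Api f) (hp : p = 3) (hO : OddAdm D Adm) (hq : 0 < q) (hr : 8 ∣ q - r)
    (h : Three D.R ε r) : Tri S := by
  obtain ⟨ζ, h8⟩ := exists_root 8 (by decide)
  have h4 := h8.pow (a := 2) (b := 4) (by decide) rfl
  have h2 := h8.pow (a := 4) (b := 2) (by decide) rfl
  obtain ⟨⟨_, _, _, a1, a2⟩, ⟨_, _, _, b1, b2, τ, b3, b4⟩, _, _, _, c1, c2⟩ := h
  obtain ⟨a3, a4⟩ := L.lab (s := s) (f := f) hq h8 (by decide) hr a1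
  obtain ⟨b5, b6⟩ := L.lab (s := s) (f := f) hq h4 (by decide) (Dvd.dvd.trans (by decide) hr) b1
  obtain ⟨c3, c4⟩ := L.lab (s := s) (f := f) hq h2 (by decide) (Dvd.dvd.trans (by decide) hr) c1
  exact tri_of hA hp (L.cenT hA) a3 a4 (stb2_of hO a3.fx (coch_pow h8.pow_eq_one _)) (L.not_ro h8 (by decide) a2)
    b5 b6 (stb_of_four hO (coch_pow h4.pow_eq_one _) (L.tc_ty b3) (L.rel_symm fun i => by
      rw [Pi.inv_apply, coch_apply, coch_apply, b4, _root_.zpow_neg, inv_inv])) (ro_of_pow (coch_pow h4.pow_eq_one _))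
    (L.not_ro h4 (by decide) b2) c3 c4 (stb_of_two hO (coch_pow h2.pow_eq_one _)) (ro_of_pow (coch_pow h2.pow_eq_one _))
    (L.not_ro h2 (by decide) c2)

end TA

end Cfsg.Agent.KZ.Ch3A
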